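import Mathlib.RingTheory.PicardGroup
import Mathlib.RingTheory.Valuation.ValuationRing
import Mathlib.RingTheory.Polynomial.UniqueFactorization
import Mathlib.Algebra.MvPolynomial.NoZeroDivisors
import Mathlib.Data.Finsupp.Weight
import Mathlib.Algebra.GCDMonoid.Finset
import Mathlib.RingTheory.LocalRing.ResidueField.Basic

/-!
# Invertible modules over polynomial rings over products of valuation rings

Invertible modules correspond to matrices of trace one whose `2 × 2` minors vanish; such a matrix
gives a free module iff it is a product `E a b = G a * F b`.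
-/

universe u v

namespace K82.PicVal

open MvPolynomial

/-- Vanishing `2 × 2` minors and trace one. -/
def RankOne {B : Type*} [CommRing B] {N : ℕ} (E : Fin N → Fin N → B) : Prop :=
  (∀ a b c d, E a b * E c d = E a d * E c b) ∧ ∑ a, E a a = 1

/-- Decomposition as a product of a column and a row. -/
def Splits {B : Type*} [CommRing B] {N : ℕ} (E : Fin N → Fin N → B) : Prop :=
  ∃ G F : Fin N → B, ∀ a b, E a b = G a * F b

theorem RankOne.map {B B' : Type*} [CommRing B] [CommRing B'] {N : ℕ} {E : Fin N → Fin N → B}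
    (h : RankOne E) (φ : B →+* B') : RankOne (fun a b => φ (E a b)) := by
  refine ⟨fun a b c d => ?_, ?_⟩
  · rw [← map_mul, h.1, map_mul]
  · rw [← map_sum, h.2, map_one]

/-- If all rank one matrices split, invertible modules are free. -/
theorem free_of_splits {B : Type*} [CommRing B]
    (h : ∀ (N : ℕ) (E : Fin N → Fin N → B), RankOne E → Splits E)
    (P : Type*) [AddCommGroup P] [Module B P] [Module.Invertible B P] : Module.Free B P := by
  -- a dual basis
  have hex : ∃ (N : ℕ) (p : Fin N → P) (φ : Fin N → Module.Dual B P), ∑ a, φ a (p a) = 1 := by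
    obtain ⟨z, hz⟩ := (Module.Invertible.linearEquiv B P).surjective 1
    obtain ⟨s, hs⟩ := TensorProduct.exists_finset z
    refine ⟨s.card, fun a => (s.equivFin.symm a : Module.Dual B P × P).2,
      fun a => (s.equivFin.symm a : Module.Dual B P × P).1, ?_⟩
    rw [hs, map_sum] at hz
    have h1 : ∀ i : Module.Dual B P × P,
        Module.Invertible.linearEquiv B P (i.1 ⊗ₜ[B] i.2) = i.1 i.2 := by
      intro i
      rfl
    simp only [h1] at hz
    rw [← hz, ← Finset.sum_coe_sort s (fun i => i.1 i.2)]
    exact (s.equivFin.symm.sum_comp (fun i : s => (i : Module.Dual B P × P).1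
      (i : Module.Dual B P × P).2))
  obtain ⟨N, p, φ, hpφ⟩ := hex
  have hcomm : ∀ (ψ : Module.Dual B P) (x y : P), ψ x • y = ψ y • x := by
    intro ψ x y
    have h1 := Module.Invertible.tmul_comm (R := B) (M := P) (m₁ := x) (m₂ := y)
    have h2 := congrArg (TensorProduct.lift ((LinearMap.lsmul B P).comp ψ)) h1
    simpa using h2
  have hE : RankOne (fun a b => φ a (p b)) := by
    refine ⟨fun a b c d => ?_, hpφ⟩
    have h1 := hcomm (φ a) (p b) (p d)
    have h2 := congrArg (φ c) h1
    rw [map_smul, map_smul, smul_eq_mul, smul_eq_mul] at h2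
    exact h2
  obtain ⟨G, F, hGF'⟩ := h N _ hE
  have hGF : ∀ a b, φ a (p b) = G a * F b := hGF'
  -- the generator
  let x : P := ∑ a, G a • p a
  have hGF1 : ∑ a, G a * F a = 1 := by
    rw [← hpφ]
    exact Finset.sum_congr rfl (fun a _ => (hGF a a).symm)
  have hφx : ∀ c, φ c x = G c := by
    intro c
    simp only [x, map_sum, map_smul, smul_eq_mul]
    calc ∑ a, G a * φ c (p a) = ∑ a, G c * (G a * F a) := by
          refine Finset.sum_congr rfl (fun a _ => ?_)
          rw [hGF c a]; ring
      _ = G c := by rw [← Finset.mul_sum, hGF1, mul_one]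
  have hrep : ∀ q : P, q = ∑ c, φ c q • p c := by
    intro q
    calc q = (∑ c, φ c (p c)) • q := by rw [hpφ, one_smul]
      _ = ∑ c, φ c (p c) • q := Finset.sum_smul
      _ = ∑ c, φ c q • p c := Finset.sum_congr rfl (fun c _ => hcomm _ _ _)
  have hpb : ∀ b, p b = F b • x := by
    intro b
    rw [hrep (p b), hrep (F b • x)]
    refine Finset.sum_congr rfl (fun c _ => ?_)
    rw [map_smul, hφx, smul_eq_mul, hGF c b, mul_comm]
  have hsurj : Function.Surjective (LinearMap.toSpanSingleton B P x) := by
    intro q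
    refine ⟨∑ c, φ c q * F c, ?_⟩
    rw [LinearMap.toSpanSingleton_apply, Finset.sum_smul]
    conv_rhs => rw [hrep q]
    refine Finset.sum_congr rfl (fun c _ => ?_)
    rw [hpb c, smul_smul]
  have hbij := Module.Invertible.bijective_of_surjective hsurj
  exact Module.Free.of_equiv (LinearEquiv.ofBijective _ hbij)

/-- Over a GCD domain, rank one matrices split. -/
theorem splits_of_gcd {D : Type*} [CommRing D] [IsDomain D] [IsGCDMonoid D] {N : ℕ}
    (E : Fin N → Fin N → D) (h : RankOne E) : Splits E := by
  classical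
  obtain ⟨_⟩ := (inferInstance : Nonempty (NormalizedGCDMonoid D))
  have hc : ∃ c, E c c ≠ 0 := by
    by_contra hcon
    push Not at hcon
    have h1 := h.2
    rw [Finset.sum_eq_zero (fun a _ => hcon a)] at h1
    exact zero_ne_one h1
  obtain ⟨c, hc⟩ := hc
  obtain ⟨F, hF, hF1⟩ := Finset.extract_gcd (s := Finset.univ) (E c) ⟨c, Finset.mem_univ c⟩
  have hg : Finset.univ.gcd (E c) ≠ 0 := by
    intro h0
    have := hF c (Finset.mem_univ c)
    rw [h0, zero_mul] at this
    exact hc this
  have hFc : F c ≠ 0 := by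
    intro h0
    have := hF c (Finset.mem_univ c)
    rw [h0, mul_zero] at this
    exact hc this
  have key : ∀ a b d, E a b * F d = E a d * F b := by
    intro a b d
    apply mul_left_cancel₀ hg
    have h1 := h.1 a b c d
    rw [hF d (Finset.mem_univ d), hF b (Finset.mem_univ b)] at h1
    calc Finset.univ.gcd (E c) * (E a b * F d) = E a b * (Finset.univ.gcd (E c) * F d) := by ring
      _ = E a d * (Finset.univ.gcd (E c) * F b) := h1
      _ = _ := by ring
  have hdvd : ∀ a d, F d ∣ E a d := by
    intro a d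
    have h1 : F d ∣ Finset.univ.gcd (fun b => E a d * F b) := by
      rw [Finset.dvd_gcd_iff]
      intro b _
      rw [← key a b d]
      exact dvd_mul_left _ _
    have h2 := h1.trans (Finset.gcd_mul_left' (s := Finset.univ) (f := F) (E a d)).dvd
    rwa [hF1, mul_one] at h2
  choose G hG using fun a => hdvd a c
  refine ⟨G, F, fun a b => ?_⟩
  apply mul_right_cancel₀ hFc
  rw [key a b c, hG a]
  ring

section Valuation

variable {R K : Type*} [CommRing R] [IsDomain R] [ValuationRing R] [Field K] [Algebra R K]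
  [IsFractionRing R K] {σ : Type*}

/-- Extraction of the content over a valuation ring. -/
theorem exists_primitive {N : ℕ} (f : Fin N → MvPolynomial σ K) (hf : ∃ b, f b ≠ 0) :
    ∃ (c : K) (f' : Fin N → MvPolynomial σ R), c ≠ 0 ∧
      (∀ b, f b = C c * MvPolynomial.map (algebraMap R K) (f' b)) ∧
      ∃ b m, coeff m (f' b) = 1 := by
  classical
  let v := ValuationRing.valuation R K
  let s : Finset (Σ _ : Fin N, (σ →₀ ℕ)) := Finset.univ.sigma (fun b => (f b).support)
  have hs : s.Nonempty := by
    obtain ⟨b, hb⟩ := hf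
    obtain ⟨m, hm⟩ := MvPolynomial.support_nonempty.2 hb
    exact ⟨⟨b, m⟩, by simp only [s, Finset.mem_sigma, Finset.mem_univ, true_and]; exact hm⟩
  obtain ⟨⟨b₀, m₀⟩, hmem, hmax⟩ := s.exists_max_image (fun x => v (coeff x.2 (f x.1))) hs
  simp only [s, Finset.mem_sigma, Finset.mem_univ, true_and, MvPolynomial.mem_support_iff] at hmem
  have hle : ∀ b m, v (coeff m (f b)) ≤ v (coeff m₀ (f b₀)) := by
    intro b m
    by_cases h0 : coeff m (f b) = 0
    · rw [h0, map_zero]
      exact zero_le
    · exact hmax ⟨b, m⟩ (by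
        simp only [s, Finset.mem_sigma, Finset.mem_univ, true_and, MvPolynomial.mem_support_iff]
        exact h0)
  have hrange : ∀ b, C (coeff m₀ (f b₀))⁻¹ * f b ∈
      Set.range (MvPolynomial.map (σ := σ) (algebraMap R K)) := by
    intro b
    rw [MvPolynomial.mem_range_map_iff_coeffs_subset]
    intro r hr
    rw [Finset.mem_coe, MvPolynomial.mem_coeffs_iff] at hr
    obtain ⟨m, -, rfl⟩ := hr
    rw [coeff_C_mul]
    have h1 : v ((coeff m₀ (f b₀))⁻¹ * coeff m (f b)) ≤ 1 := by
      rw [map_mul, map_inv₀, mul_comm, ← div_eq_mul_inv]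
      exact div_le_one_of_le₀ (hle b m) zero_le
    obtain ⟨a, ha⟩ := (ValuationRing.mem_integer_iff R K _).1 h1
    exact ⟨a, ha⟩
  choose f' hf' using hrange
  refine ⟨coeff m₀ (f b₀), f', hmem, fun b => ?_, b₀, m₀, ?_⟩
  · rw [hf', ← mul_assoc, ← C_mul, mul_inv_cancel₀ hmem, C_1, one_mul]
  · apply IsFractionRing.injective R K
    rw [← coeff_map, hf', coeff_C_mul, inv_mul_cancel₀ hmem, map_one]

/-- Over a polynomial ring over a valuation ring, rank one matrices split. -/
theorem splits_of_valuationRing {N : ℕ} (E : Fin N → Fin N → MvPolynomial σ R)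
    (h : RankOne E) : Splits E := by
  classical
  let K := FractionRing R
  have hinj : Function.Injective (MvPolynomial.map (σ := σ) (algebraMap R K)) :=
    MvPolynomial.map_injective _ (IsFractionRing.injective R K)
  obtain ⟨G, F, hGF'⟩ := splits_of_gcd _ (h.map (MvPolynomial.map (algebraMap R K)))
  have hGF : ∀ a b, MvPolynomial.map (algebraMap R K) (E a b) = G a * F b := hGF'
  have hne : ∃ c, E c c ≠ 0 := by
    by_contra hcon
    push Not at hcon
    have h1 := h.2
    rw [Finset.sum_eq_zero (fun a _ => hcon a)] at h1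
    exact zero_ne_one h1
  obtain ⟨e, he⟩ := hne
  have hGFe : G e * F e ≠ 0 := by
    rw [← hGF e e]
    intro h0
    exact he (hinj (by rw [h0, map_zero]))
  obtain ⟨c, G', hc, hG', a₀, mG, hmG⟩ :=
    exists_primitive (R := R) G ⟨e, left_ne_zero_of_mul hGFe⟩
  obtain ⟨d, F', hd, hF', b₀, mF, hmF⟩ :=
    exists_primitive (R := R) F ⟨e, right_ne_zero_of_mul hGFe⟩
  have hE : ∀ a b, MvPolynomial.map (algebraMap R K) (E a b) =
      C (c * d) * MvPolynomial.map (algebraMap R K) (G' a * F' b) := by
    intro a b
    rw [hGF a b, hG', hF', C_mul, map_mul]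
    ring
  -- the product of primitive polynomials is primitive
  have hprim : ∃ m, IsUnit (coeff m (G' a₀ * F' b₀)) := by
    let r := MvPolynomial.map (σ := σ) (IsLocalRing.residue R)
    have h1 : r (G' a₀) ≠ 0 := by
      intro h0
      have := congrArg (coeff mG) h0
      rw [coeff_map, hmG, map_one, coeff_zero] at this
      exact one_ne_zero this
    have h2 : r (F' b₀) ≠ 0 := by
      intro h0
      have := congrArg (coeff mF) h0
      rw [coeff_map, hmF, map_one, coeff_zero] at this
      exact one_ne_zero this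
    have h3 : r (G' a₀ * F' b₀) ≠ 0 := by
      rw [map_mul]
      exact mul_ne_zero h1 h2
    obtain ⟨m, hm⟩ := MvPolynomial.ne_zero_iff.1 h3
    refine ⟨m, ?_⟩
    rw [coeff_map] at hm
    by_contra hcon
    exact hm ((IsLocalRing.residue_eq_zero_iff _).2 ((IsLocalRing.mem_maximalIdeal _).2 hcon))
  obtain ⟨m, hm⟩ := hprim
  have hcd : ∃ r : R, algebraMap R K r = c * d := by
    obtain ⟨υ, hυ⟩ := hm
    have h1 := congrArg (coeff m) (hE a₀ b₀)
    rw [coeff_C_mul, coeff_map, coeff_map, ← hυ] at h1
    refine ⟨coeff m (E a₀ b₀) * ↑υ⁻¹, ?_⟩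
    rw [map_mul, h1, mul_assoc, ← map_mul, Units.mul_inv, map_one, mul_one]
  obtain ⟨r, hr⟩ := hcd
  refine ⟨fun a => C r * G' a, F', fun a b => ?_⟩
  apply hinj
  rw [hE a b, ← hr, mul_assoc, map_mul _ (C r), MvPolynomial.map_C]

end Valuation

theorem totalDegree_le_of_splits {D : Type*} [CommRing D] [IsDomain D] {σ : Type*} {N : ℕ}
    (E : Fin N → Fin N → MvPolynomial σ D) (h : RankOne E) (G F : Fin N → MvPolynomial σ D)
    (hGF : ∀ a b, E a b = G a * F b) (d : ℕ) (hd : ∀ a b, (E a b).totalDegree ≤ d) :
    (∀ a, (G a).totalDegree ≤ d) ∧ ∀ b, (F b).totalDegree ≤ d := by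
  have hne : ∃ c, E c c ≠ 0 := by
    by_contra hcon
    push Not at hcon
    have h1 := h.2
    rw [Finset.sum_eq_zero (fun a _ => hcon a)] at h1
    exact zero_ne_one h1
  obtain ⟨c, hc⟩ := hne
  rw [hGF c c] at hc
  have hGc := left_ne_zero_of_mul hc
  have hFc := right_ne_zero_of_mul hc
  constructor
  · intro a
    by_cases h0 : G a = 0
    · rw [h0, totalDegree_zero]; exact Nat.zero_le _
    · have h1 := hd a c
      rw [hGF a c, totalDegree_mul_of_isDomain h0 hFc] at h1
      omega
  · intro b
    by_cases h0 : F b = 0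
    · rw [h0, totalDegree_zero]; exact Nat.zero_le _
    · have h1 := hd c b
      rw [hGF c b, totalDegree_mul_of_isDomain hGc h0] at h1
      omega

section Product

variable {ι : Type*} {R : ι → Type*} [∀ i, CommRing (R i)] {σ : Type*}

theorem ext_pi (f g : MvPolynomial σ (∀ i, R i))
    (h : ∀ i, MvPolynomial.map (Pi.evalRingHom R i) f = MvPolynomial.map (Pi.evalRingHom R i) g) :
    f = g := by
  ext m i
  have h1 := congrArg (coeff m) (h i)
  rw [coeff_map, coeff_map] at h1
  exact h1

/-- A family of polynomials of bounded degree glues. -/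
theorem exists_glue [Finite σ] (f : ∀ i, MvPolynomial σ (R i)) (d : ℕ)
    (hd : ∀ i, (f i).totalDegree ≤ d) :
    ∃ g : MvPolynomial σ (∀ i, R i), ∀ i, MvPolynomial.map (Pi.evalRingHom R i) g = f i := by
  classical
  let s : Finset (σ →₀ ℕ) := (Finsupp.finite_of_degree_le (σ := σ) d).toFinset
  refine ⟨∑ m ∈ s, monomial m (fun i => coeff m (f i)), fun i => ?_⟩
  ext m
  rw [map_sum]
  simp only [map_monomial, coeff_sum, coeff_monomial]
  rw [Finset.sum_ite_eq']
  split_ifs with hm
  · rfl
  · symm
    apply MvPolynomial.coeff_eq_zero_of_totalDegree_lt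
    refine lt_of_le_of_lt (hd i) ?_
    simp only [s, Set.Finite.mem_toFinset, Set.mem_setOf_eq, not_le] at hm
    rw [Finsupp.degree_apply] at hm
    exact hm

/-- Rank one matrices over a polynomial ring over a product of valuation rings split. -/
theorem splits_pi [Finite σ] [∀ i, IsDomain (R i)] [∀ i, ValuationRing (R i)] {N : ℕ}
    (E : Fin N → Fin N → MvPolynomial σ (∀ i, R i)) (h : RankOne E) : Splits E := by
  classical
  have h1 : ∀ i, Splits (fun a b => MvPolynomial.map (Pi.evalRingHom R i) (E a b)) :=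
    fun i => splits_of_valuationRing _ (h.map _)
  choose G F hGF using h1
  let d := Finset.univ.sup (fun x : Fin N × Fin N => (E x.1 x.2).totalDegree)
  have hd : ∀ i a b, (MvPolynomial.map (Pi.evalRingHom R i) (E a b)).totalDegree ≤ d := by
    intro i a b
    refine le_trans (Finset.sup_mono (MvPolynomial.support_map_subset _ _)) ?_
    exact Finset.le_sup (f := fun x : Fin N × Fin N => (E x.1 x.2).totalDegree)
      (Finset.mem_univ (a, b))
  have hdeg := fun i => totalDegree_le_of_splits _ (h.map (MvPolynomial.map (Pi.evalRingHom R i)))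
    (G i) (F i) (hGF i) d (hd i)
  choose G' hG' using fun a => exists_glue (fun i => G i a) d (fun i => (hdeg i).1 a)
  choose F' hF' using fun b => exists_glue (fun i => F i b) d (fun i => (hdeg i).2 b)
  refine ⟨G', F', fun a b => ext_pi _ _ fun i => ?_⟩
  rw [map_mul, hG', hF']
  exact hGF i a b

end Product

end K82.PicVal
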